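import Cfsg.Agent.H78.DegP.Defs
import Cfsg.Agent.H1.Cores
import Cfsg.Agent.H6.Transfer
import Cfsg.Agent.H67.Transfer2
import Cfsg.Agent.H70.KleinCentralizerSylow
import Cfsg.Agent.H61.DihedralIso
import Cfsg.Agent.S0508

/-!
S4724, the case of a TI complement of even order: the Sylow 2-subgroups are dihedral and the
centraliser of an involution is a generalised dihedral group, so Brauer–Suzuki–Wall applies.
-/

set_option autoImplicit false
set_option linter.style.haveILetI false
set_option linter.unusedSectionVars false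

open Cfsg Subgroup

namespace H5.DegP

universe u

variable {G : Type u} [Group G]

/-- A cyclic subgroup has at most one involution. -/
theorem invol_unique [Finite G] (E : Subgroup G) [IsCyclic E] {a b : G} (ha : a ∈ E) (hb : b ∈ E)
    (ha2 : a * a = 1) (hb2 : b * b = 1) (ha1 : a ≠ 1) (hb1 : b ≠ 1) : a = b := by
  classical
  by_contra hne
  haveI : Fintype E := Fintype.ofFinite _
  have h := IsCyclic.card_pow_eq_one_le (α := E) (n := 2) two_pos
  have h3 : ({1, ⟨a, ha⟩, ⟨b, hb⟩} : Finset E) ⊆ Finset.univ.filter fun x : E => x ^ 2 = 1 := by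
    intro x hx
    simp only [Finset.mem_insert, Finset.mem_singleton] at hx
    simp only [Finset.mem_filter, Finset.mem_univ, true_and, pow_two]
    rcases hx with rfl | rfl | rfl
    · exact one_mul 1
    · exact Subtype.ext ha2
    · exact Subtype.ext hb2
  have := (Finset.card_le_card h3).trans h
  rw [Finset.card_insert_of_notMem, Finset.card_insert_of_notMem, Finset.card_singleton] at this
  · omega
  · simp only [Finset.mem_singleton]; exact fun e => hne (congrArg Subtype.val e)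
  · simp only [Finset.mem_insert, Finset.mem_singleton]
    rintro (e | e)
    · exact ha1 (congrArg Subtype.val e).symm
    · exact hb1 (congrArg Subtype.val e).symm

theorem relIndex_mul_natCard {H K : Subgroup G} (h : H ≤ K) :
    H.relIndex K * Nat.card H = Nat.card K := by
  have := relIndex_mul_relIndex ⊥ H K bot_le h
  rwa [relIndex_bot_left, relIndex_bot_left, mul_comm] at this

theorem cyclic_comm (E : Subgroup G) [IsCyclic E] {a b : G} (ha : a ∈ E) (hb : b ∈ E) :
    a * b = b * a := by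
  obtain ⟨g, hg⟩ := IsCyclic.exists_generator (α := E)
  obtain ⟨i, hi⟩ := mem_zpowers_iff.1 (hg ⟨a, ha⟩)
  obtain ⟨j, hj⟩ := mem_zpowers_iff.1 (hg ⟨b, hb⟩)
  have h := congrArg Subtype.val ((Commute.refl g).zpow_zpow i j).eq
  rw [hi, hj] at h
  exact h

theorem sq_mem_of_relIndex_two {E N : Subgroup G} (h : E.relIndex N = 2) {a : G} (ha : a ∈ N) :
    a * a ∈ E := by
  have h' := (mul_mem_iff_of_index_two (H := E.subgroupOf N) h (a := ⟨a, ha⟩) (b := ⟨a, ha⟩)).2
    Iff.rfl
  exact h'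

theorem mul_mem_of_not_mem {E N : Subgroup G} (h : E.relIndex N = 2) {a b : G} (ha : a ∈ N)
    (hb : b ∈ N) (ha' : a ∉ E) (hb' : b ∉ E) : a * b ∈ E := by
  have h' := (mul_mem_iff_of_index_two (H := E.subgroupOf N) h (a := ⟨a, ha⟩) (b := ⟨b, hb⟩)).2
    ⟨fun x => absurd x ha', fun x => absurd x hb'⟩
  exact h'

/-- Every nontrivial 2-element has a power which is an involution. -/
theorem exists_pow_involution {w : G} {l : ℕ} (hw : orderOf w = 2 ^ l) (hw1 : w ≠ 1) :
    ∃ j : ℕ, w ^ j ≠ 1 ∧ w ^ j * w ^ j = 1 := by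
  obtain ⟨l', rfl⟩ : ∃ l', l = l' + 1 := by
    refine ⟨l - 1, ?_⟩
    rcases Nat.eq_zero_or_pos l with rfl | h
    · rw [pow_zero, orderOf_eq_one_iff] at hw; exact absurd hw hw1
    · omega
  refine ⟨2 ^ l', pow_ne_one_of_lt_orderOf (by positivity) ?_, ?_⟩
  · rw [hw]; exact Nat.pow_lt_pow_right (by norm_num) (by omega)
  · rw [← pow_add, ← two_mul, ← pow_succ', ← hw, pow_orderOf_eq_one]

theorem sylow_data [Finite G] [IsSimpleGroup G] {E : Subgroup G} [IsCyclic E] {z : G}
    (hzE : z ∈ E) (hz2 : z * z = 1) (hz1 : z ≠ 1)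
    (hcz : centralizer ({z} : Set G) = normalizer (E : Set G))
    (hcard : Nat.card (normalizer (E : Set G)) = 2 * Nat.card E) (heven : Even (Nat.card E))
    (hi : E.relIndex (normalizer (E : Set G)) = 2) :
    ∃ S : Sylow 2 G, (S : Subgroup G) ≤ normalizer (E : Set G) ∧ z ∈ (S : Subgroup G) ∧
      (E ⊓ (S : Subgroup G)).relIndex (S : Subgroup G) = 2 := by
  classical
  haveI : Fact (Nat.Prime 2) := ⟨Nat.prime_two⟩
  set N := normalizer (E : Set G) with hN
  have hEN : E ≤ N := le_normalizer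
  have hz : orderOf z = 2 := orderOf_eq_prime (by rw [pow_two, hz2]) hz1
  set z' : ↥N := ⟨z, hEN hzE⟩ with hz'
  have hzp : IsPGroup 2 ↥(zpowers z') := by
    refine IsPGroup.of_card (n := 1) ?_
    rw [Nat.card_zpowers, ← Subgroup.orderOf_coe, pow_one]
    exact hz
  obtain ⟨T₀, hT₀⟩ := hzp.exists_le_sylow
  set T := (T₀ : Subgroup ↥N).map N.subtype with hT
  have hTN : T ≤ N := map_subtype_le _
  have hzT : z ∈ T := ⟨z', hT₀ (mem_zpowers z'), rfl⟩
  have hTp : IsPGroup 2 ↥T := T₀.2.map _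
  have hTmax : ∀ R : Subgroup G, IsPGroup 2 ↥R → T ≤ R → R ≤ N → R = T := by
    intro R hR hTR hRN
    have h1 : R.subgroupOf N = (T₀ : Subgroup ↥N) := by
      refine T₀.3 (hR.of_equiv (subgroupOfEquivOfLe hRN).symm) ?_
      intro t ht
      exact hTR ⟨t, ht, rfl⟩
    rw [hT, ← h1, map_subgroupOf_eq_of_le hRN]
  have hTcard : Nat.card T = 2 ^ (Nat.card ↥N).factorization 2 := by
    rw [hT, card_map_of_injective N.subtype_injective, T₀.card_eq_multiplicity]
  have hNf : (Nat.card ↥N).factorization 2 = (Nat.card E).factorization 2 + 1 := by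
    rw [hcard, Nat.factorization_mul (by norm_num) Nat.card_pos.ne']
    simp [Nat.prime_two.factorization_self, add_comm]
  have hnotle : ¬ T ≤ E := by
    intro hle
    have h1 := card_dvd_of_le hle
    rw [hTcard, hNf] at h1
    have h2 := (Nat.prime_two.pow_dvd_iff_le_factorization Nat.card_pos.ne').1 h1
    omega
  have hTi : (E ⊓ T).relIndex T = 2 := by
    rw [inf_relIndex_right]
    have hd : (E.subgroupOf N).relIndex (T₀ : Subgroup ↥N) ∣ (E.subgroupOf N).index :=
      relIndex_dvd_index_of_normal _ _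
    have he : E.relIndex T = (E.subgroupOf N).relIndex (T₀ : Subgroup ↥N) := by
      rw [hT, ← relIndex_comap]; rfl
    rw [← he] at hd
    rcases (Nat.dvd_prime Nat.prime_two).1 (hd.trans (dvd_of_eq hi)) with h | h
    · exact absurd (relIndex_eq_one.1 h) hnotle
    · exact h
  obtain ⟨S, hTS⟩ := hTp.exists_le_sylow
  suffices hST : (S : Subgroup G) = T by
    exact ⟨S, hST ▸ hTN, hST ▸ hzT, by rw [hST]; exact hTi⟩
  by_cases hv : ∃ v ∈ T, v * v = z
  · obtain ⟨v, hvT, hvz⟩ := hv
    by_contra hne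
    haveI : Group.IsNilpotent ↥(S : Subgroup G) := S.2.isNilpotent
    have hlt : T.subgroupOf (S : Subgroup G) < ⊤ :=
      lt_top_iff_ne_top.2 fun h => hne (le_antisymm (subgroupOf_eq_top.1 h) hTS)
    obtain ⟨s, hs, hs'⟩ := SetLike.exists_of_lt (Group.normalizerCondition_of_isNilpotent _ hlt)
    have hsT : (s : G) ∉ T := hs'
    have hconj : (s : G) * v * (s : G)⁻¹ ∈ T := by
      have := (mem_normalizer_iff.1 hs ⟨v, hTS hvT⟩).1 hvT
      exact this
    have hzconj : (s : G) * z * (s : G)⁻¹ = z := by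
      have hmem : (s : G) * z * (s : G)⁻¹ ∈ E := by
        have := sq_mem_of_relIndex_two hi (hTN hconj)
        rwa [conj_mul, hvz] at this
      refine invol_unique E hmem hzE (by rw [conj_mul, hz2, mul_one, mul_inv_cancel]) hz2 ?_ hz1
      intro e
      exact hz1 (conj_eq_one_iff.1 e)
    have hsN : (s : G) ∈ N := by
      rw [← hcz, mem_centralizer_singleton_iff]
      conv_rhs => rw [← hzconj]
      group
    have hR := hTmax ((S : Subgroup G) ⊓ N) (S.2.to_le inf_le_left) (le_inf hTS hTN) inf_le_right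
    exact hsT (hR ▸ mem_inf.2 ⟨s.2, hsN⟩)
  · push Not at hv
    have hsq : ∀ v ∈ T, v * v = 1 := by
      intro v hvT
      by_contra hne
      obtain ⟨l, hl⟩ := IsPGroup.iff_orderOf.1 hTp ⟨v * v, mul_mem hvT hvT⟩
      rw [← Subgroup.orderOf_coe] at hl
      obtain ⟨j, hj1, hj2⟩ := exists_pow_involution hl hne
      refine hv (v ^ j) (pow_mem hvT j) ?_
      have hmem : (v * v) ^ j ∈ E := pow_mem (sq_mem_of_relIndex_two hi (hTN hvT)) j
      have he : v ^ j * v ^ j = (v * v) ^ j := ((Commute.refl v).mul_pow j).symm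
      rw [he]
      exact invol_unique E hmem hzE hj2 hz2 hj1 hz1
    have h4 : Nat.card T = 4 := by
      have h2 : Nat.card ↥(E ⊓ T) = 2 := by
        rw [← hz, ← Nat.card_zpowers]
        refine congrArg (fun H : Subgroup G => Nat.card H) (le_antisymm ?_ ?_)
        · intro t ht
          obtain ⟨htE, htT⟩ := mem_inf.1 ht
          by_cases h : t = 1
          · rw [h]; exact one_mem _
          · rw [invol_unique E htE hzE (hsq t htT) hz2 h hz1]; exact mem_zpowers z
        · rw [zpowers_le]; exact mem_inf.2 ⟨hzE, hzT⟩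
      have h := relIndex_mul_natCard (H := E ⊓ T) (K := T) inf_le_right
      rw [hTi, h2] at h
      omega
    haveI : Nontrivial ↥T := ⟨⟨⟨z, hzT⟩, 1, fun e => hz1 (congrArg Subtype.val e)⟩⟩
    have hK : IsKleinFour ↥T := by
      refine ⟨h4, ?_⟩
      have hd : Monoid.exponent ↥T ∣ 2 :=
        Monoid.exponent_dvd_of_forall_pow_eq_one fun g => by
          rw [pow_two]; exact Subtype.ext (hsq g g.2)
      rcases (Nat.dvd_prime Nat.prime_two).1 hd with h | h
      · exact absurd (Monoid.exp_eq_one_iff.1 h) (not_subsingleton _)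
      · exact h
    have hS4 := H70.klein_sylow_card hz T h4 hK hzT
      (fun R hR hTR hRC => hTmax R hR hTR (hcz ▸ hRC)) S hTS
    exact (Subgroup.eq_of_le_of_card_ge hTS (by rw [hS4, h4])).symm

/-- The norm `a ↦ a · b a b`. -/
def normB (b a : G) : G := a * (b * a * b)

theorem normB_mul {E : Subgroup G} [IsCyclic E] {b : G} (hb2 : b * b = 1)
    (hbE : ∀ a ∈ E, b * a * b ∈ E) {a c : G} (ha : a ∈ E) (hc : c ∈ E) :
    normB b (a * c) = normB b a * normB b c := by
  unfold normB
  have h1 : b * (a * c) * b = b * a * b * (b * c * b) := by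
    calc b * (a * c) * b = b * a * 1 * c * b := by group
      _ = b * a * (b * b) * c * b := by rw [hb2]
      _ = b * a * b * (b * c * b) := by group
  rw [h1]
  calc a * c * (b * a * b * (b * c * b)) = a * (c * (b * a * b)) * (b * c * b) := by group
    _ = a * (b * a * b * c) * (b * c * b) := by rw [cyclic_comm E hc (hbE a ha)]
    _ = a * (b * a * b) * (c * (b * c * b)) := by group

theorem normB_pow {E : Subgroup G} [IsCyclic E] {b : G} (hb2 : b * b = 1)
    (hbE : ∀ a ∈ E, b * a * b ∈ E) {a : G} (ha : a ∈ E) (m : ℕ) :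
    normB b (a ^ m) = normB b a ^ m := by
  induction m with
  | zero => simp [normB, hb2]
  | succ k ih => rw [pow_succ, normB_mul hb2 hbE (pow_mem ha k) ha, ih, pow_succ]

theorem normB_inv {E : Subgroup G} [IsCyclic E] {b : G} (hb2 : b * b = 1)
    (hbE : ∀ a ∈ E, b * a * b ∈ E) {a : G} (ha : a ∈ E) :
    normB b a⁻¹ = (normB b a)⁻¹ := by
  refine eq_inv_of_mul_eq_one_left ?_
  rw [← normB_mul hb2 hbE (inv_mem ha) ha, inv_mul_cancel]
  simp [normB, hb2]

theorem exists_inverting [Finite G] [IsSimpleGroup G] {E : Subgroup G} [IsCyclic E] {z : G}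
    (hzE : z ∈ E) (hz2 : z * z = 1) (hz1 : z ≠ 1)
    (hcz : centralizer ({z} : Set G) = normalizer (E : Set G))
    (hti : ∀ x ∈ E, x ≠ 1 → ∀ g : G, g * x * g⁻¹ ∈ E → g ∈ normalizer (E : Set G))
    (hi : E.relIndex (normalizer (E : Set G)) = 2)
    (S : Sylow 2 G) (hSN : (S : Subgroup G) ≤ normalizer (E : Set G))
    (hzS : z ∈ (S : Subgroup G)) (hSi : (E ⊓ (S : Subgroup G)).relIndex (S : Subgroup G) = 2) :
    ∃ b ∈ (S : Subgroup G), b ∉ E ∧ b * b = 1 ∧ ∀ a ∈ E, b * a * b = a⁻¹ := by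
  classical
  haveI : Fact (Nat.Prime 2) := ⟨Nat.prime_two⟩
  set N := normalizer (E : Set G) with hN
  have hEN : E ≤ N := le_normalizer
  have hz : orderOf z = 2 := orderOf_eq_prime (by rw [pow_two, hz2]) hz1
  have hno : ∀ K : Subgroup G, K.Normal → K.index = 2 → False := by
    intro K hK hK2
    rcases hK.eq_bot_or_eq_top with h | h
    · rw [h, index_bot] at hK2
      have h1 : Nat.card ↥(S : Subgroup G) ≤ Nat.card G := card_le_card_group _
      have h2 := relIndex_mul_natCard (H := E ⊓ (S : Subgroup G)) (K := (S : Subgroup G)) inf_le_right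
      rw [hSi] at h2
      have h3 : 2 ≤ Nat.card ↥(E ⊓ (S : Subgroup G)) :=
        hz.symm.le.trans (Nat.le_of_dvd Nat.card_pos
          ((E ⊓ (S : Subgroup G)).orderOf_dvd_natCard (mem_inf.2 ⟨hzE, hzS⟩)))
      omega
    · rw [h, index_top] at hK2; omega
  have hfix : ∀ g : G, g * z * g⁻¹ = z → g ∈ N := by
    intro g hg
    exact hti z hzE hz1 g (by rw [hg]; exact hzE)
  have hnle : ¬ (S : Subgroup G) ≤ E := fun h => by
    rw [inf_eq_right.2 h, relIndex_self] at hSi; omega
  -- an involution outside `E`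
  obtain ⟨b, hbS, hbE, hb2⟩ : ∃ b ∈ (S : Subgroup G), b ∉ E ∧ b * b = 1 := by
    by_contra hcon
    push Not at hcon
    obtain ⟨x, hxS, hxE⟩ := SetLike.not_le_iff_exists.1 hnle
    have hinv : ∀ g : G, g * z * g⁻¹ ∈ (S : Subgroup G) → g ∈ N := by
      intro g hg
      refine hfix g ?_
      have h2 : g * z * g⁻¹ * (g * z * g⁻¹) = 1 := by rw [conj_mul, hz2, mul_one, mul_inv_cancel]
      have hmem : g * z * g⁻¹ ∈ E := by
        by_contra h
        exact hcon _ hg h h2
      refine invol_unique E hmem hzE h2 hz2 ?_ hz1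
      intro e
      exact hz1 (conj_eq_one_iff.1 e)
    have hpow : ∀ w ∈ (S : Subgroup G), w ≠ 1 → ∃ j : ℕ, w ^ j = z := by
      intro w hw hw1
      obtain ⟨l, hl⟩ := IsPGroup.iff_orderOf.1 S.2 ⟨w, hw⟩
      rw [← Subgroup.orderOf_coe] at hl
      obtain ⟨j, hj1, hj2⟩ := exists_pow_involution hl hw1
      refine ⟨j, invol_unique E ?_ hzE hj2 hz2 hj1 hz1⟩
      by_contra h
      exact hcon _ (pow_mem hw j) h hj2
    have hconjE : ∀ g ∈ N, ∀ a : G, g * a * g⁻¹ ∈ E ↔ a ∈ E := fun g hg a =>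
      ((mem_normalizer_iff.1 hg) a).symm
    have hback : ∀ g : G, ∀ w ∈ (S : Subgroup G), w ≠ 1 → g * w * g⁻¹ ∈ (S : Subgroup G) →
        g ∈ N := by
      intro g w hw hw1 hg
      obtain ⟨j, hj⟩ := hpow w hw hw1
      refine hinv g ?_
      rw [← hj, ← conj_pow]
      exact pow_mem hg j
    obtain ⟨K, hK, hK2, -⟩ := H67.exists_index_two_of_fusion S (E ⊓ (S : Subgroup G)) inf_le_right
      hSi x hxS
      (fun g hg hgM => hxE ((hconjE g (hback g x hxS (fun h => hxE (h ▸ one_mem E)) hg) x).1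
        (mem_inf.1 hgM).1))
      (fun g k hg => by
        refine mem_inf.2 ⟨?_, hg⟩
        have hwE : x ^ (2 * k) ∈ E := by
          rw [pow_mul, pow_two]
          exact pow_mem (sq_mem_of_relIndex_two hi (hSN hxS)) k
        by_cases hw1 : x ^ (2 * k) = 1
        · rw [hw1, mul_one, mul_inv_cancel]; exact one_mem E
        · exact (hconjE g (hback g _ (pow_mem hxS _) hw1 hg) _).2 hwE)
    exact hno K hK hK2
  have hbN : b ∈ N := hSN hbS
  have hbinv : b⁻¹ = b := inv_eq_of_mul_eq_one_right hb2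
  have hbz : b * z = z * b := by
    have := hSN hbS
    rw [← hcz, mem_centralizer_singleton_iff] at this
    exact this
  have hbE' : ∀ a ∈ E, b * a * b ∈ E := by
    intro a ha
    have := (mem_normalizer_iff.1 hbN a).1 ha
    rwa [hbinv] at this
  -- `b` is conjugate to `z`
  obtain ⟨g, hg⟩ : ∃ g : G, g * b * g⁻¹ = z := by
    have hb : orderOf b = 2 :=
      orderOf_eq_prime (by rw [pow_two, hb2]) (fun h => hbE (h ▸ one_mem E))
    rcases H6.thompson_transfer S (E ⊓ (S : Subgroup G)) inf_le_right hSi b hb with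
      ⟨K, hK, hK2, -⟩ | ⟨g, hg⟩
    · exact (hno K hK hK2).elim
    · refine ⟨g, invol_unique E (mem_inf.1 hg).1 hzE ?_ hz2 ?_ hz1⟩
      · rw [conj_mul, hb2, mul_one, mul_inv_cancel]
      · intro e
        refine hbE ?_
        have := congrArg (fun t => g⁻¹ * t * g) e
        simp only [mul_one, inv_mul_cancel] at this
        rw [show b = g⁻¹ * (g * b * g⁻¹) * g by group, this]
        exact one_mem E
  have hcent : ∀ a ∈ E, b * a = a * b → a = 1 ∨ a = z := by
    intro a ha hab
    by_cases h1 : a = 1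
    · exact Or.inl h1
    refine Or.inr (invol_unique E ha hzE ?_ hz2 h1 hz1)
    by_contra h2
    have hmem : g * a * g⁻¹ ∈ N := by
      rw [← hcz, mem_centralizer_singleton_iff, ← hg, conj_mul, conj_mul, hab]
    have hw : g * (a * a) * g⁻¹ ∈ E := by
      rw [← conj_mul]; exact sq_mem_of_relIndex_two hi hmem
    have hgN : g ∈ N := hti (a * a) (mul_mem ha ha) h2 g hw
    refine hbE ((mem_normalizer_iff.1 hgN b).2 ?_)
    rw [hg]; exact hzE
  have hval : ∀ a ∈ E, normB b a = 1 ∨ normB b a = z := by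
    intro a ha
    refine hcent _ (mul_mem ha (hbE' a ha)) ?_
    unfold normB
    calc b * (a * (b * a * b)) = b * a * b * a * b := by group
      _ = a * (b * a * b) * b := by rw [cyclic_comm E (hbE' a ha) ha]
  by_cases hall : ∀ a ∈ E, normB b a = 1
  · exact ⟨b, hbS, hbE, hb2, fun a ha => eq_inv_of_mul_eq_one_right (hall a ha)⟩
  exfalso
  push Not at hall
  obtain ⟨y, hy, hy1⟩ := hall
  have hyz : normB b y = z := (hval y hy).resolve_left hy1
  -- a 2-element with the same value
  set m := (E ⊓ (S : Subgroup G)).relIndex E with hm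
  have hmodd : Odd m := by
    have h1 := relIndex_mul_relIndex (E ⊓ (S : Subgroup G)) E N inf_le_left hEN
    have h2 := relIndex_mul_relIndex (E ⊓ (S : Subgroup G)) (S : Subgroup G) N inf_le_right hSN
    rw [hi] at h1
    rw [hSi] at h2
    have h3 : ¬ 2 ∣ (S : Subgroup G).relIndex N := fun hd =>
      S.not_dvd_index (hd.trans ⟨N.index, (relIndex_mul_index hSN).symm⟩)
    have h4 : m = (S : Subgroup G).relIndex N := by omega
    rw [← Nat.not_even_iff_odd, even_iff_two_dvd, h4]
    exact h3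
  set u := y ^ m with hu
  have huM : u ∈ E ⊓ (S : Subgroup G) := by
    haveI : ((E ⊓ (S : Subgroup G)).subgroupOf E).Normal :=
      ⟨fun n hn g => by
        have : g * n * g⁻¹ = n := by
          apply Subtype.ext
          simp only [Subgroup.coe_mul, Subgroup.coe_inv]
          rw [cyclic_comm E g.2 n.2, mul_inv_cancel_right]
        rwa [this]⟩
    exact pow_index_mem ((E ⊓ (S : Subgroup G)).subgroupOf E) (⟨y, hy⟩ : E)
  obtain ⟨huE, huS⟩ := mem_inf.1 huM
  have huz : normB b u = z := by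
    obtain ⟨r, hr⟩ := hmodd
    rw [hu, normB_pow hb2 hbE' hy, hyz, hr, pow_succ, pow_mul, pow_two, hz2, one_pow, one_mul]
  have hsqb : ∀ a : G, a * b * (a * b) = normB b a := fun a => by unfold normB; group
  have hswap : ∀ a ∈ E, normB b (b * a * b) = normB b a := by
    intro a ha
    unfold normB
    rw [show b * (b * a * b) * b = (b * b) * a * (b * b) by group, hb2, one_mul, mul_one,
      cyclic_comm E (hbE' a ha) ha]
  have hcancel : ∀ a : G, a * b * b = a := fun a => by rw [mul_assoc, hb2, mul_one]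
  let M : Subgroup G :=
    { carrier := {s | s ∈ (S : Subgroup G) ∧ ((s ∈ E ∧ normB b s = 1) ∨
        (s * b ∈ E ∧ normB b (s * b) = 1))}
      one_mem' := ⟨one_mem _, Or.inl ⟨one_mem _, by simp [normB, hb2]⟩⟩
      mul_mem' := by
        rintro s t ⟨hs, hs'⟩ ⟨ht, ht'⟩
        refine ⟨mul_mem hs ht, ?_⟩
        rcases hs' with ⟨hsE, hsn⟩ | ⟨hsE, hsn⟩ <;> rcases ht' with ⟨htE, htn⟩ | ⟨htE, htn⟩
        · exact Or.inl ⟨mul_mem hsE htE, by rw [normB_mul hb2 hbE' hsE htE, hsn, htn, one_mul]⟩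
        · refine Or.inr ⟨?_, ?_⟩
          · rw [mul_assoc]; exact mul_mem hsE htE
          · rw [mul_assoc, normB_mul hb2 hbE' hsE htE, hsn, htn, one_mul]
        · have e : s * t * b = s * b * (b * t * b) := by
            rw [show s * b * (b * t * b) = s * (b * b) * t * b by group, hb2, mul_one]
          refine Or.inr ⟨?_, ?_⟩
          · rw [e]; exact mul_mem hsE (hbE' t htE)
          · rw [e, normB_mul hb2 hbE' hsE (hbE' t htE), hswap t htE, hsn, htn, one_mul]
        · have e : s * t = s * b * (b * (t * b) * b) := by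
            rw [show s * b * (b * (t * b) * b) = s * (b * b) * t * (b * b) by group, hb2, mul_one,
              mul_one]
          refine Or.inl ⟨?_, ?_⟩
          · rw [e]; exact mul_mem hsE (hbE' _ htE)
          · rw [e, normB_mul hb2 hbE' hsE (hbE' _ htE), hswap _ htE, hsn, htn, one_mul]
      inv_mem' := by
        rintro s ⟨hs, hs'⟩
        refine ⟨inv_mem hs, ?_⟩
        rcases hs' with ⟨hsE, hsn⟩ | ⟨hsE, hsn⟩
        · exact Or.inl ⟨inv_mem hsE, by rw [normB_inv hb2 hbE' hsE, hsn, inv_one]⟩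
        · have e : s⁻¹ * b = b * (s * b)⁻¹ * b := by
            rw [mul_inv_rev, hbinv, show b * (b * s⁻¹) * b = (b * b) * s⁻¹ * b by group, hb2,
              one_mul]
          refine Or.inr ⟨?_, ?_⟩
          · rw [e]; exact hbE' _ (inv_mem hsE)
          · rw [e, hswap _ (inv_mem hsE), normB_inv hb2 hbE' hsE, hsn, inv_one] }
  have memM : ∀ s : G, s ∈ M ↔ s ∈ (S : Subgroup G) ∧ ((s ∈ E ∧ normB b s = 1) ∨
      (s * b ∈ E ∧ normB b (s * b) = 1)) := fun _ => Iff.rfl
  have hexcl : ∀ s : G, s ∈ E → s * b ∉ E := fun s hs h => hbE ((E.mul_mem_cancel_left hs).1 h)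
  have hone : ∀ s ∈ (S : Subgroup G), s ∈ E → (s ∈ M ↔ normB b s = 1) := by
    intro s hs hsE
    rw [memM]
    constructor
    · rintro ⟨-, ⟨-, h⟩ | ⟨h, -⟩⟩
      · exact h
      · exact absurd h (hexcl s hsE)
    · exact fun h => ⟨hs, Or.inl ⟨hsE, h⟩⟩
  have hout : ∀ s ∈ (S : Subgroup G), s ∉ E → (s ∈ M ↔ normB b (s * b) = 1) := by
    intro s hs hsE
    rw [memM]
    constructor
    · rintro ⟨-, ⟨h, -⟩ | ⟨-, h⟩⟩
      · exact absurd h hsE
      · exact h
    · exact fun h => ⟨hs, Or.inr ⟨mul_mem_of_not_mem hi (hSN hs) hbN hsE hbE, h⟩⟩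
  have hflip : ∀ a ∈ E, (normB b (a * u) = 1 ↔ ¬ normB b a = 1) := by
    intro a ha
    rw [normB_mul hb2 hbE' ha huE, huz]
    rcases hval a ha with h | h <;> simp [h, hz1, hz2]
  have hMi : M.relIndex (S : Subgroup G) = 2 := by
    refine index_eq_two_iff.2 ⟨⟨u, huS⟩, fun s => ?_⟩
    rw [mem_subgroupOf, mem_subgroupOf, Subgroup.coe_mul]
    by_cases hsE : (s : G) ∈ E
    · rw [hone _ (mul_mem s.2 huS) (mul_mem hsE huE), hone _ s.2 hsE, hflip _ hsE]
      by_cases h : normB b (s : G) = 1 <;> simp [h]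
    · have hsu : (s : G) * u ∉ E := fun h => hsE ((E.mul_mem_cancel_right huE).1 h)
      have hsb : (s : G) * b ∈ E := mul_mem_of_not_mem hi (hSN s.2) hbN hsE hbE
      have e : (s : G) * u * b = (s : G) * b * (b * u * b) := by
        rw [show (s : G) * b * (b * u * b) = (s : G) * (b * b) * u * b by group, hb2, mul_one]
      have hv : normB b ((s : G) * b * (b * u * b)) = normB b ((s : G) * b * u) := by
        rw [normB_mul hb2 hbE' hsb (hbE' u huE), hswap u huE, normB_mul hb2 hbE' hsb huE]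
      rw [hout _ (mul_mem s.2 huS) hsu, hout _ s.2 hsE, e, hv, hflip _ hsb]
      by_cases h : normB b ((s : G) * b) = 1 <;> simp [h]
  have hzM : z ∈ M := by
    rw [hone z hzS hzE]
    unfold normB
    rw [show b * z * b = z * b * b by rw [hbz], hcancel, hz2]
  have hx : u * b * (u * b) = z := (hsqb u).trans huz
  have hxE : u * b ∉ E := hexcl u huE
  obtain ⟨K, hK, hK2, -⟩ := H67.exists_index_two_of_fusion S M (fun s hs => hs.1) hMi (u * b)
    (mul_mem huS hbS)
    (fun g _ hgM => by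
      set w := g * (u * b) * g⁻¹ with hw
      have hww : w * w = g * z * g⁻¹ := by rw [hw, conj_mul, hx]
      have hne : g * z * g⁻¹ ≠ 1 := by
        intro e
        exact hz1 (conj_eq_one_iff.1 e)
      rcases hgM.2 with ⟨hwE, -⟩ | ⟨-, hwn⟩
      · have hgN : g ∈ N := hti z hzE hz1 g (by rw [← hww]; exact mul_mem hwE hwE)
        exact hxE ((mem_normalizer_iff.1 hgN (u * b)).2 hwE)
      · apply hne
        rw [← hww]
        have := hsqb (w * b)
        rw [hcancel] at this
        rw [this, hwn])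
    (fun g k hgS => by
      have hpow : (u * b) ^ (2 * k) = z ^ k := by rw [pow_mul, pow_two, hx]
      rw [hpow] at hgS ⊢
      rcases Nat.even_or_odd k with ⟨k', rfl⟩ | ⟨k', rfl⟩
      · rw [← two_mul, pow_mul, pow_two, hz2, one_pow, mul_one, mul_inv_cancel]
        exact one_mem M
      · rw [pow_succ, pow_mul, pow_two, hz2, one_pow, one_mul] at hgS ⊢
        have h2 : g * z * g⁻¹ * (g * z * g⁻¹) = 1 := by rw [conj_mul, hz2, mul_one, mul_inv_cancel]
        have hne : g * z * g⁻¹ ≠ 1 := by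
          intro e
          exact hz1 (conj_eq_one_iff.1 e)
        by_cases hE : g * z * g⁻¹ ∈ E
        · rw [invol_unique E hE hzE h2 hz2 hne hz1]; exact hzM
        · rw [hout _ hgS hE, ← hsqb, hcancel]
          exact h2)
  exact hno K hK hK2

theorem even_stmt : H78.DegP.EvenStmt.{u} := by
  intro G _ _ p _ P E hyp heven
  classical
  haveI : Fact (Nat.Prime 2) := ⟨Nat.prime_two⟩
  haveI := hyp.simple
  haveI := hyp.cyclic
  set N := normalizer (E : Set G) with hN
  have hEN : E ≤ N := le_normalizer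
  obtain ⟨z₀, hz₀⟩ := exists_prime_orderOf_dvd_card' (G := ↥E) 2 heven.two_dvd
  set z := (z₀ : G) with hzdef
  have hzE : z ∈ E := z₀.2
  have hz : orderOf z = 2 := by rw [hzdef, Subgroup.orderOf_coe, hz₀]
  have hz2 : z * z = 1 := by rw [← pow_two, ← hz, pow_orderOf_eq_one]
  have hz1 : z ≠ 1 := fun h => by rw [h, orderOf_one] at hz; omega
  have hti : ∀ x ∈ E, x ≠ 1 → ∀ g : G, g * x * g⁻¹ ∈ E → g ∈ N := by
    intro x hx hx1 g hgx
    by_contra hg
    have hmem : g * x * g⁻¹ ∈ E ⊓ E.map (MulAut.conj g).toMonoidHom :=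
      mem_inf.2 ⟨hgx, ⟨x, hx, rfl⟩⟩
    rw [hyp.ti g hg, mem_bot] at hmem
    exact hx1 (conj_eq_one_iff.1 hmem)
  have hcz : centralizer ({z} : Set G) = N := by
    ext g
    rw [mem_centralizer_singleton_iff]
    constructor
    · intro hg
      refine hti z hzE hz1 g ?_
      rw [hg, mul_inv_cancel_right]
      exact hzE
    · intro hg
      have hmem := (mem_normalizer_iff.1 hg z).1 hzE
      have := invol_unique E hmem hzE (by rw [conj_mul, hz2, mul_one, mul_inv_cancel]) hz2
        (fun e => hz1 (conj_eq_one_iff.1 e)) hz1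
      conv_rhs => rw [← this]
      group
  have hi : E.relIndex N = 2 := by
    have h := relIndex_mul_natCard (H := E) (K := N) hEN
    rw [hyp.card_normalizer] at h
    exact Nat.eq_of_mul_eq_mul_right Nat.card_pos h
  obtain ⟨S, hSN, hzS, hSi⟩ := sylow_data hzE hz2 hz1 hcz hyp.card_normalizer heven hi
  obtain ⟨b, hbS, hbE, hb2, hinv⟩ := exists_inverting hzE hz2 hz1 hcz hti hi S hSN hzS hSi
  have hbinv : b⁻¹ = b := inv_eq_of_mul_eq_one_right hb2
  have hout : ∀ s ∈ N, s ∉ E → ∀ a ∈ E, s * a * s⁻¹ = a⁻¹ := by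
    intro s hs hsE a ha
    have hbN : b ∈ N := hSN hbS
    have hsb : s * b ∈ E := mul_mem_of_not_mem hi hs hbN hsE hbE
    have e : s = s * b * b := by rw [mul_assoc, hb2, mul_one]
    rw [e, show s * b * b * a * (s * b * b)⁻¹ = s * b * (b * a * b⁻¹) * (s * b)⁻¹ by group, hbinv,
      hinv a ha, cyclic_comm E hsb (inv_mem ha), mul_inv_cancel_right]
  set M₀ := E ⊓ (S : Subgroup G) with hM₀
  haveI hM₀cyc : IsCyclic ↥M₀ :=
    isCyclic_of_injective (Subgroup.inclusion (inf_le_left : M₀ ≤ E))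
      (Subgroup.inclusion_injective _)
  have hM₀card : Nat.card ↥(S : Subgroup G) = 2 * Nat.card ↥M₀ := by
    have h := relIndex_mul_natCard (H := M₀) (K := (S : Subgroup G)) inf_le_right
    rw [hSi] at h
    exact h.symm
  have hn2 : 2 ≤ Nat.card ↥M₀ := by
    exact hz.symm.le.trans (Nat.le_of_dvd Nat.card_pos
      (M₀.orderOf_dvd_natCard (mem_inf.2 ⟨hzE, hzS⟩)))
  haveI : NeZero (Nat.card ↥M₀) := ⟨Nat.card_pos.ne'⟩
  obtain ⟨c, hc⟩ := IsCyclic.exists_generator (α := ↥M₀)
  have hcE : (c : G) ∈ E := (mem_inf.1 c.2).1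
  have hiso : Nonempty (↥(S : Subgroup G) ≃* DihedralGroup (Nat.card ↥M₀)) := by
    refine H61.nonempty_mulEquiv_dihedralGroup (⟨c, (mem_inf.1 c.2).2⟩ : ↥(S : Subgroup G))
      ⟨b, hbS⟩ _ ?_ (Subtype.ext hb2) (Subtype.ext (hinv _ hcE)) ?_ hM₀card
    · rw [← Subgroup.orderOf_coe]
      rw [← orderOf_eq_card_of_forall_mem_zpowers hc, ← Subgroup.orderOf_coe c]
    · rintro ⟨i, hie⟩
      apply hbE
      have h := congrArg Subtype.val hie
      simp only [SubgroupClass.coe_zpow] at h
      rw [← h]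
      exact zpow_mem hcE i
  set C := centralizer ({z} : Set G) with hC
  set O := (Cfsg.oddCore ↥C).map C.subtype with hO
  have hOE : O ≤ E := by
    rintro _ ⟨x, hx, rfl⟩
    have hodd : Odd (orderOf (x : G)) := by
      rw [Subgroup.orderOf_coe]
      exact (Nat.coprime_two_right.1 (H1.card_pPrimeCore_coprime 2 ↥C)).of_dvd_nat
        (orderOf_dvd_natCard _ hx)
    obtain ⟨r, hr⟩ := hodd
    have hxN : (x : G) ∈ N := hcz ▸ x.2
    have h1 : ((x : G) * (x : G)) ^ (r + 1) = (x : G) := by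
      rw [← pow_two, ← pow_mul, show 2 * (r + 1) = orderOf (x : G) + 1 by omega, pow_succ,
        pow_orderOf_eq_one, one_mul]
    show (x : G) ∈ E
    rw [← h1]
    exact pow_mem (sq_mem_of_relIndex_two hi hxN) _
  have hOodd : ∀ o ∈ O, o * o = 1 → o = 1 := by
    rintro _ ⟨x, hx, rfl⟩ h2
    have h1 : orderOf x ∣ 2 :=
      orderOf_dvd_of_pow_eq_one (by rw [pow_two]; exact Subtype.ext h2)
    have h3 := (Nat.coprime_two_right.1 (H1.card_pPrimeCore_coprime 2 ↥C)).of_dvd_nat
      (orderOf_dvd_natCard _ hx)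
    rcases (Nat.dvd_prime Nat.prime_two).1 h1 with h | h
    · rw [orderOf_eq_one_iff.1 h]; rfl
    · rw [h] at h3; exact absurd h3 (by decide)
  have hcentO : O ≠ ⊥ → (S : Subgroup G) ⊓ centralizer (O : Set G) = M₀ := by
    intro hOb
    refine le_antisymm ?_ ?_
    · intro s hs
      obtain ⟨hsS, hsC⟩ := mem_inf.1 hs
      refine mem_inf.2 ⟨?_, hsS⟩
      by_contra hsE
      obtain ⟨o, ho, ho1⟩ := (bot_or_exists_ne_one O).resolve_left hOb
      refine ho1 (hOodd o ho ?_)
      have h1 := hout s (hSN hsS) hsE o (hOE ho)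
      rw [← mem_centralizer_iff.1 hsC o ho, mul_inv_cancel_right] at h1
      exact mul_eq_one_iff_eq_inv.2 h1
    · intro s hs
      obtain ⟨hsE, hsS⟩ := mem_inf.1 hs
      exact mem_inf.2 ⟨hsS, mem_centralizer_iff.2 fun o ho => cyclic_comm E (hOE ho) hsE⟩
  refine Cfsg.Agent.S0508.result S (Nat.card ↥M₀) hn2 hiso z hz hzS ?_ O hO ?_ ?_ ?_
  · intro s hs
    exact mem_centralizer_singleton_iff.1 ((SetLike.ext_iff.1 hcz s).2 (hSN hs))
  · intro hOb
    rw [hcentO hOb]
    exact ⟨hM₀cyc, hSi⟩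
  · intro s hs hsC o ho
    refine hout s (hSN hs) ?_ o (hOE ho)
    intro hsE
    exact hsC (mem_centralizer_iff.2 fun o' ho' => cyclic_comm E (hOE ho') hsE)
  · intro Y hY hYb g hg
    obtain ⟨y, hy, hy1⟩ := (bot_or_exists_ne_one Y).resolve_left hYb
    refine (SetLike.ext_iff.1 hcz g).2 ?_
    exact hti y (hOE (hY hy)) hy1 g (hOE (hY ((mem_normalizer_iff.1 hg y).1 hy)))

end H5.DegP
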